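import Groth.Agent.CohCmpLib.HomLift
import Groth.Agent.CohCmpLib.HomFrame
import Groth.Agent.CohCmpLib.FrameTools
import Groth.Agent.CurveVBLib.Basic
import Groth.Agent.Formal2VBLib.Sections
import Groth.Agent.SBTautLib.Decomp

/-!
# Endomorphisms of sums of copies of an invertible module, and their pullbacks
-/

set_option autoImplicit false
set_option linter.style.haveILetI false
set_option backward.isDefEq.respectTransparency false
set_option backward.isDefEq.respectTransparency.types false

universe u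

open CategoryTheory CategoryTheory.Limits AlgebraicGeometry TopologicalSpace Opposite
open scoped TensorProduct
open ProjFormLib (ger res IsFrame exists_ger)
open CohCmpLib (homMod hVal ofHom secHom homMod_ext homPull evS evMod)
open KFlatLib (pb puSec puSecLE)
open DevissLib (St)

noncomputable section

namespace LineSemiLib

/-- The matrix algebra of a decomposition into copies. -/
theorem exists_matHom {C : Type*} [Category C] [Preadditive C] {n : ℕ} {L M : C} (ι : Fin n → (L ⟶ M))
    (π : Fin n → (M ⟶ L)) (h1 : ∀ a, ι a ≫ π a = 𝟙 L) (h2 : ∀ a b, a ≠ b → ι a ≫ π b = 0)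
    (h3 : ∑ a, π a ≫ ι a = 𝟙 M) : Nonempty (Matrix (Fin n) (Fin n) ℤ →+* End M) := by
  classical
  let U : Fin n → Fin n → End M := fun a b => π b ≫ ι a
  have hU : ∀ a b c d, U a b * U c d = if b = c then U a d else 0 := fun a b c d => by
    show (π d ≫ ι c) ≫ π b ≫ ι a = _
    split_ifs with h
    · subst h; rw [Category.assoc, ← Category.assoc (ι b), h1, Category.id_comp]
    · rw [Category.assoc, ← Category.assoc (ι c), h2 c b (Ne.symm h), zero_comp, comp_zero]
  refine ⟨{ toFun := fun A => ∑ a, ∑ b, A a b • U a b, map_one' := ?_, map_mul' := fun A B => ?_,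
            map_zero' := by simp, map_add' := fun A B => by simp [add_smul, Finset.sum_add_distrib] }⟩
  · simp [Matrix.one_apply, ite_smul, U, End.one_def, h3]
  · show (∑ a, ∑ d, (A * B) a d • U a d) = (∑ a, ∑ b, A a b • U a b) * ∑ c, ∑ d, B c d • U c d
    rw [Finset.sum_mul]
    refine Finset.sum_congr rfl fun a _ => Eq.symm ?_
    rw [Finset.sum_mul]
    have hb : ∀ b, (A a b • U a b) * (∑ c, ∑ d, B c d • U c d) = ∑ d, (A a b * B b d) • U a d := fun b => by
      rw [Finset.mul_sum, Finset.sum_eq_single b (fun c _ h => by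
        rw [Finset.mul_sum]
        exact Finset.sum_eq_zero fun d _ => by rw [smul_mul_smul_comm, hU, if_neg (Ne.symm h), smul_zero])
        (by simp), Finset.mul_sum]
      exact Finset.sum_congr rfl fun d _ => by rw [smul_mul_smul_comm, hU, if_pos rfl]
    rw [Finset.sum_congr rfl fun b _ => hb b, Finset.sum_comm]
    exact Finset.sum_congr rfl fun d _ => by rw [Matrix.mul_apply, Finset.sum_smul]

variable {X Z : Scheme.{u}}

/-- The inclusions and projections of a sum of copies. -/
theorem exists_copies {M L : X.Modules} {r : ℕ} (φ : M ≅ ∐ fun _ : Fin r => L) :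
    ∃ (ι : Fin r → (L ⟶ M)) (π : Fin r → (M ⟶ L)), (∀ a, ι a ≫ π a = 𝟙 L) ∧
      (∀ a b, a ≠ b → ι a ≫ π b = 0) ∧ ∑ a, π a ≫ ι a = 𝟙 M := by
  classical
  let pr : Fin r → ((∐ fun _ : Fin r => L) ⟶ L) := fun a => Sigma.desc fun b => if b = a then 𝟙 L else 0
  refine ⟨fun a => Sigma.ι (fun _ : Fin r => L) a ≫ φ.inv, fun a => φ.hom ≫ pr a,
    fun a => by simp [pr], fun a b h => by simp [pr, h], ?_⟩
  have h : ∑ a, pr a ≫ Sigma.ι (fun _ : Fin r => L) a = 𝟙 _ := by
    refine Sigma.hom_ext _ _ fun b => ?_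
    simp [Preadditive.comp_sum, pr, ite_comp]
  have h' := congrArg (fun t => φ.hom ≫ t ≫ φ.inv) h
  simp only [Preadditive.sum_comp, Preadditive.comp_sum, Category.assoc, Category.id_comp, Iso.hom_inv_id] at h'
  simpa only [Category.assoc] using h'

theorem hom_ext_hVal {M P : X.Modules} {u v : M ⟶ P}
    (h : ∀ y, hVal (ofHom u) y trivial = hVal (ofHom v) y trivial) : u = v :=
  Formal2VBLib.hom_ext_stalk fun y a => LinearMap.congr_fun (h y) a

/-- Morphisms are the global sections of the sheaf of homomorphisms. -/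
theorem bijective_ofHom (M P : X.Modules) : Function.Bijective (ofHom : (M ⟶ P) → Γ(homMod M P, (⊤ : X.Opens))) := by
  refine ⟨fun u v h => hom_ext_hVal fun y => by rw [h], fun s => ⟨secHom s, homMod_ext fun y hy => ?_⟩⟩
  rw [CohCmpLib.hVal_ofHom, CohCmpLib.stalk_secHom]

/-- A global frame of the endomorphisms of a sum of copies of an invertible module. -/
theorem exists_endFrame {M L : X.Modules} {r : ℕ} (hM : FlatMod.IsFinLocFree M) (hL : PicF.IsInvertible L)
    (φ : M ≅ ∐ fun _ : Fin r => L) :
    ∃ t : Fin (r * r) → Γ(homMod M M, (⊤ : X.Opens)), IsFrame (homMod M M) t := by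
  classical
  obtain ⟨ι, π, h1, h2, h3⟩ := exists_copies φ
  refine ⟨fun j => ofHom (π (finProdFinEquiv.symm j).1 ≫ ι (finProdFinEquiv.symm j).2), fun y hy => ?_⟩
  let R := X.presheaf.stalk y
  let S := DerSch.stalkFunctor X y
  let Ms := CohCmpLib.stk M y
  let Ls := CohCmpLib.stk L y
  let i : Fin r → (Ls →ₗ[R] Ms) := fun a => (S.map (ι a)).hom
  let p : Fin r → (Ms →ₗ[R] Ls) := fun a => (S.map (π a)).hom
  haveI : S.Additive := inferInstanceAs (DerSch.stalkFunctor X y).Additive
  have k1 : ∀ a x, p a (i a x) = x := fun a x => by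
    have := congr((S.map $(h1 a)).hom x)
    rwa [S.map_comp, S.map_id] at this
  have k2 : ∀ a b, a ≠ b → ∀ x, p b (i a x) = 0 := fun a b h x => by
    have := congr((S.map $(h2 a b h)).hom x)
    rwa [S.map_comp, S.map_zero] at this
  have k3 : ∀ m, ∑ a, i a (p a m) = m := fun m => by
    have := congr((S.map $h3).hom m)
    rw [S.map_id, S.map_sum] at this
    simp only [S.map_comp] at this
    simpa [ModuleCat.hom_sum] using this
  obtain ⟨U, hyU, ⟨eL⟩⟩ := hL y
  haveI : Nonempty (Fin 1) := ⟨0⟩
  obtain ⟨t⟩ := CurveVBLib.nonempty_stalk_pi_on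
    (eL ≪≫ (coproductUniqueIso fun _ : Fin 1 => Coh.structureModule (U : Scheme.{u})).symm) hyU
  let g : Ls := t.symm fun _ => 1
  have hg : ∀ x : Ls, x = t x 0 • g := fun x => t.injective (funext fun j => by
    fin_cases j; simp [g])
  have hsc : ∀ (f : Ls →ₗ[R] Ls) x, f x = t (f g) 0 • x := fun f x => by
    conv_lhs => rw [hg x, map_smul, hg (f g)]
    conv_rhs => rw [hg x]
    rw [smul_smul, smul_smul, mul_comm]
  let E := LinearEquiv.ofBijective _ (CohCmpLib.homEv_evMod (P := M) hM y)
  have hE : ∀ c, E ((Fintype.linearCombination R fun j : Fin (r * r) => ger (homMod M M) y hy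
        (ofHom (π (finProdFinEquiv.symm j).1 ≫ ι (finProdFinEquiv.symm j).2))) c) =
      ∑ a, ∑ b, c (finProdFinEquiv (a, b)) • (i b ∘ₗ p a) := fun c => by
    rw [Fintype.linearCombination_apply, map_sum, ← finProdFinEquiv.sum_comp, Fintype.sum_prod_type]
    refine Finset.sum_congr rfl fun a _ => Finset.sum_congr rfl fun b _ => ?_
    rw [map_smul, Equiv.symm_apply_apply]
    refine congrArg (_ • ·) ((CohCmpLib.evS_evMod _ y hy).trans ?_)
    refine (CohCmpLib.hVal_ofHom _ y).trans ?_
    rw [Functor.map_comp, ModuleCat.hom_comp]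
  have key : Function.Bijective fun c : Fin (r * r) → R =>
      ∑ a, ∑ b, c (finProdFinEquiv (a, b)) • (i b ∘ₗ p a) := by
    have hcoef : ∀ (c : Fin (r * r) → R) a b,
        p b ((∑ a', ∑ b', c (finProdFinEquiv (a', b')) • (i b' ∘ₗ p a')) (i a g)) = c (finProdFinEquiv (a, b)) • g :=
      fun c a b => by
        simp only [LinearMap.sum_apply, LinearMap.smul_apply, LinearMap.comp_apply, map_sum, map_smul]
        rw [Finset.sum_eq_single a (fun a' _ h => Finset.sum_eq_zero fun b' _ => by rw [k2 a a' (Ne.symm h), map_zero, map_zero, smul_zero]) (fun h => absurd (Finset.mem_univ a) h),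
          Finset.sum_eq_single b (fun b' _ h => by rw [k2 b' b h, smul_zero]) (fun h => absurd (Finset.mem_univ b) h), k1, k1]
    refine ⟨fun c c' h => funext fun j => ?_, fun T => ?_⟩
    · obtain ⟨⟨a, b⟩, rfl⟩ := finProdFinEquiv.surjective j
      have := congrArg (fun T : Ms →ₗ[R] Ms => t (p b (T (i a g))) 0) h
      dsimp only at this
      rw [hcoef, hcoef, map_smul, map_smul] at this
      simpa [g] using this
    · refine ⟨fun j => t (p (finProdFinEquiv.symm j).2 (T (i (finProdFinEquiv.symm j).1 g))) 0,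
        LinearMap.ext fun m => ?_⟩
      simp only [LinearMap.sum_apply, LinearMap.smul_apply, LinearMap.comp_apply, Equiv.symm_apply_apply]
      conv_rhs => rw [← k3 m, map_sum]
      refine Finset.sum_congr rfl fun a _ => ?_
      conv_rhs => rw [← k3 (T (i a (p a m)))]
      refine Finset.sum_congr rfl fun b _ => ?_
      rw [← map_smul]
      exact congrArg (i b) (hsc (p b ∘ₗ T ∘ₗ i a) (p a m)).symm
  refine (Function.Bijective.of_comp_iff' E.bijective _).1 ?_
  exact (congrArg Function.Bijective (funext hE : (E ∘ _) = _)).mpr key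

/-- Pullback of morphisms through the sheaves of homomorphisms. -/
theorem homPull_ofHom (g : Z ⟶ X) {M P : X.Modules} (u : M ⟶ P) :
    (homPull g M P).app ⊤ (puSecLE g (homMod M P) (U := ⊤) (U' := ⊤) le_rfl (ofHom u)) =
      ofHom ((Scheme.Modules.pullback g).map u) := by
  refine homMod_ext fun z hz => ?_
  let := (g.stalkMap z).hom.toAlgebra
  obtain ⟨L, L', hL, hL', hLL⟩ := CohCmpLib.exists_homPull_stalk (M := M) (P := P) g z
  rw [hLL ⊤ ⊤ le_rfl hz (ofHom u)]
  refine LinearMap.ext fun a => ?_
  obtain ⟨a, rfl⟩ := L.surjective a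
  simp only [LinearMap.comp_apply, LinearEquiv.coe_coe, LinearEquiv.symm_apply_apply]
  induction a using TensorProduct.induction_on with
  | zero => simp
  | add a b ha hb => simp only [map_add, ha, hb]
  | tmul c a =>
    rw [show c ⊗ₜ[X.presheaf.stalk (g z)] a = c • ((1 : Z.presheaf.stalk z) ⊗ₜ[X.presheaf.stalk (g z)] a) by
      rw [TensorProduct.smul_tmul', smul_eq_mul, mul_one]]
    simp only [map_smul]
    refine congrArg (c • ·) ?_
    obtain ⟨W, hW, m, rfl⟩ := exists_ger M (g z) a
    rw [LinearMap.baseChange_tmul, CohCmpLib.hVal_ofHom, hL]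
    erw [ProjFormLib.ger_map u (g z) hW m]
    rw [hL', CohCmpLib.hVal_ofHom]
    erw [ProjFormLib.ger_map ((Scheme.Modules.pullback g).map u) z (U := g ⁻¹ᵁ W) hW (puSec g m)]
    rw [KFlatLib.puSec_natural]

end LineSemiLib
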