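import Groth.Agent.LineSemiLib.Line
import Groth.Agent.LineSemiLib.EndFrame
import Groth.Agent.GrassLib.SchSec
import Groth.Agent.GenusZeroLib.Mult
import Groth.Agent.RRVanLib.GG
import Groth.Agent.SBTautLib.Descent
import Groth.Agent.SeesawLib.Ranks

/-!
# Bundles semistable on all lines, on a variety where line-trivial bundles are trivial
-/

set_option autoImplicit false
set_option linter.style.haveILetI false
set_option backward.isDefEq.respectTransparency false
set_option backward.isDefEq.respectTransparency.types false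

universe u

open CategoryTheory CategoryTheory.Limits AlgebraicGeometry TopologicalSpace Opposite
open ProjFormLib (IsFrame)
open CohCmpLib (homMod ofHom homPull)
open KFlatLib (pb puSec puSecLE)
open DevissLib (St)
open GrassSch (puTop)

noncomputable section

namespace LineSemiLib

variable {X Z : Scheme.{u}}

/-- A bundle of rank `r` has stalks of rank `r`. -/
theorem finrank_stalk_of_rank {r : ℕ} {E : X.Modules} (hE : FlatMod.IsFinLocFreeOfRank r E) (x : X) :
    Module.finrank (X.presheaf.stalk x) ((St x).obj E) = r := by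
  obtain ⟨U, hU, ⟨e⟩⟩ := hE x
  obtain ⟨t⟩ := CurveVBLib.nonempty_stalk_pi_on e hU
  exact t.finrank_eq.trans (Module.finrank_fin_fun _)

/-- The endomorphism sheaf of a bundle of rank `r` has rank `r * r`. -/
theorem rank_homMod {r : ℕ} {E : X.Modules} (hE : FlatMod.IsFinLocFreeOfRank r E) :
    FlatMod.IsFinLocFreeOfRank (r * r) (homMod E E) := by
  have hf : FlatMod.IsFinLocFree E := fun x => let ⟨U, h⟩ := hE x; ⟨U, r, h⟩
  refine SBTaut.rank_of_finrank (CohCmpLib.isFinLocFree_homMod hf hf) fun x => ?_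
  obtain ⟨U, hU, ⟨e⟩⟩ := hE x
  obtain ⟨t⟩ := CurveVBLib.nonempty_stalk_pi_on e hU
  haveI := Module.Free.of_equiv t.symm
  haveI := Module.Finite.equiv t.symm
  rw [show Module.finrank (X.presheaf.stalk x) ((St x).obj (homMod E E)) = _ from
    (LinearEquiv.ofBijective _ (CohCmpLib.homEv_evMod (P := E) hf x)).finrank_eq]
  exact (Module.finrank_linearMap ..).trans (by rw [t.finrank_eq, Module.finrank_fin_fun])

/-- Pullback is bijective on sections of a free module if it is bijective on functions. -/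
theorem bijective_puTop (g : Z ⟶ X) (hg : Function.Bijective g.appTop) {M : X.Modules} {n : ℕ}
    {t : Fin n → Γ(M, (⊤ : X.Opens))} (ht : IsFrame M t) : Function.Bijective (puTop g M) := by
  have h1 := GrassSch.bijective_comb_top ht
  have h2 := GrassSch.bijective_comb_top (GrassSch.isFrame_puTop g ht)
  refine (Function.Bijective.of_comp_iff _ h1).1 ?_
  have h : puTop g M ∘ Fintype.linearCombination Γ(X, ⊤) t =
      Fintype.linearCombination Γ(Z, ⊤) (fun j => puTop g M (t j)) ∘ fun c j => g.appTop (c j) := by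
    funext c
    simp only [Function.comp_apply, Fintype.linearCombination_apply, map_sum, GrassSch.puTop_smul]
  rw [h]
  exact h2.comp ⟨fun c c' h => funext fun j => hg.1 (congrFun h j),
    fun d => ⟨fun j => (hg.2 (d j)).choose, funext fun j => (hg.2 (d j)).choose_spec⟩⟩

/-- A bundle of rank `r` on a point has a global frame of size `r`. -/
theorem exists_frame_point [Subsingleton Z] [Nonempty Z] {r : ℕ} {M : Z.Modules}
    (hM : FlatMod.IsFinLocFreeOfRank r M) : Nonempty (M ≅ ∐ fun _ : Fin r => Coh.structureModule Z) :=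
  by
  obtain ⟨x⟩ := (inferInstance : Nonempty Z)
  obtain ⟨U, hxU, ⟨e⟩⟩ := hM x
  haveI : Surjective U.ι := ⟨fun y => ⟨⟨x, hxU⟩, Subsingleton.elim _ _⟩⟩
  haveI : IsIso U.ι := (isIso_iff_isOpenImmersion_and_surjective U.ι).2 ⟨inferInstance, inferInstance⟩
  exact ⟨((Scheme.Modules.pullbackId Z).app M).symm ≪≫
    (Scheme.Modules.pullbackCongr (IsIso.inv_hom_id U.ι).symm).app M ≪≫
    ((Scheme.Modules.pullbackComp (inv U.ι) U.ι).app M).symm ≪≫
    (Scheme.Modules.pullback (inv U.ι)).mapIso
      (((Scheme.Modules.restrictFunctorIsoPullback U.ι).app M).symm ≪≫ e) ≪≫ KFlatLib.pullFreeIso _ r⟩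

/-- A bundle with free endomorphisms splits into copies of a line bundle. -/
theorem exists_split_of_endFree [IsLocallyNoetherian X] [Subsingleton Z] [Nonempty Z] (p : Z ⟶ X)
    (hp : Function.Bijective p.appTop) {r : ℕ} (hr : 0 < r) {E : X.Modules} (hE : FlatMod.IsFinLocFreeOfRank r E)
    {n : ℕ} (hend : Nonempty (homMod E E ≅ FlatMod.freeMod X n)) :
    ∃ L : X.Modules, PicF.IsInvertible L ∧ Nonempty (E ≅ ∐ fun _ : Fin r => L) := by
  have hf : FlatMod.IsFinLocFree E := fun x => let ⟨U, h⟩ := hE x; ⟨U, r, h⟩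
  obtain ⟨eF⟩ := hend
  obtain ⟨t₀, ht₀⟩ := ProjFormLib.isFrame_freeMod X n
  have hb := bijective_puTop p hp (ht₀.map eF.symm)
  let F := Scheme.Modules.pullback p
  haveI : F.IsLeftAdjoint := ⟨_, ⟨Scheme.Modules.pullbackPushforwardAdjunction p⟩⟩
  haveI : F.Additive := Functor.additive_of_preserves_binary_products _
  let θ : End E →+* End (pb p E) :=
    { toFun := fun u => F.map u, map_one' := F.map_id E, map_mul' := fun u v => F.map_comp v u,
      map_zero' := F.map_zero _ _, map_add' := fun u v => F.map_add }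
  haveI := CohCmpLib.isIso_homPull p (P := E) hf
  have hi : Function.Bijective ((homPull p E E).app ⊤) :=
    (ConcreteCategory.isIso_iff_bijective ((homPull p E E).app ⊤)).1 inferInstance
  have hθ : Function.Bijective θ := by
    refine (Function.Bijective.of_comp_iff' (bijective_ofHom (pb p E) (pb p E)) _).1 ?_
    refine (congrArg Function.Bijective (funext fun u => ?_)).mp (hi.comp (hb.comp (bijective_ofHom E E)))
    exact homPull_ofHom p u
  obtain ⟨φ⟩ := exists_frame_point (SeesawLib.isFinLocFreeOfRank_pullback p hE)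
  obtain ⟨ι, π, h1, h2, h3⟩ := exists_copies φ
  obtain ⟨ν⟩ := exists_matHom ι π h1 h2 h3
  haveI : NeZero r := ⟨hr.ne'⟩
  obtain ⟨L, i, q, hiq, ⟨e⟩⟩ :=
    SBTaut.exists_iso_biproduct ((RingEquiv.ofBijective θ hθ).symm.toRingHom.comp ν)
  exact ⟨L, SBTaut.isInvertible_of_pow hr (KSMod.isFinLocFree_of_retract i q hiq hf) e (finrank_stalk_of_rank hE),
    ⟨e ≪≫ biproduct.isoCoproduct _⟩⟩

end LineSemiLib

namespace LineSemiLib

variable {k : Type u} [Field k] [IsAlgClosed k] {X : Scheme.{u}} [X.Over (Spec (CommRingCat.of k))]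
  [IsIntegral X] [IsProper (X ↘ Spec (CommRingCat.of k))]

/-- A rational point, bijective on global functions. -/
theorem exists_point : ∃ p : Spec (CommRingCat.of k) ⟶ X, Function.Bijective p.appTop := by
  let f := X ↘ Spec (CommRingCat.of k)
  haveI : CompactSpace X := QuasiCompact.compactSpace_of_compactSpace f
  obtain ⟨x, -, hx⟩ := (isClosed_univ (X := X)).exists_closed_singleton Set.univ_nonempty
  let p : Spec (CommRingCat.of k) ⟶ X := pointOfClosedPoint f x hx
  have hp : p ≫ f = 𝟙 _ := pointOfClosedPoint_comp f x hx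
  have hsec : ∀ c, p.appTop (f.appTop c) = c := fun c => congr(Scheme.Hom.appTop $hp c)
  refine ⟨p, fun a b hab => ?_, fun c => ⟨f.appTop c, hsec c⟩⟩
  obtain ⟨a', ha⟩ := GenusZeroLib.exists_const k (RRVanLib.finrank_h0_structure (k := k) (X := X)) a
  obtain ⟨b', hb⟩ := GenusZeroLib.exists_const k (RRVanLib.finrank_h0_structure (k := k) (X := X)) b
  have hv : ∀ r : k, p.appTop (GenusZeroLib.ρ k r) = (Scheme.ΓSpecIso (CommRingCat.of k)).inv r := fun r => hsec _
  rw [← ha, ← hb, hv, hv] at hab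
  rw [← ha, ← hb, (ConcreteCategory.bijective_of_isIso (Scheme.ΓSpecIso (CommRingCat.of k)).inv).1 hab]

/-- **Bundles semistable on all lines are sums of copies of a line bundle.** -/
theorem exists_split_of_semistable_lines
    (htriv : ∀ (n : ℕ) (F : X.Modules), FlatMod.IsFinLocFreeOfRank n F →
      (∀ (f : CohB1.ProjSpace 1 k ⟶ X), f ≫ (X ↘ Spec (CommRingCat.of k)) = CohB1.ProjSpace.toSpec 1 k →
        Nonempty ((Scheme.Modules.pullback f).obj F ≅ FlatMod.freeMod (CohB1.ProjSpace 1 k) n)) →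
      Nonempty (F ≅ FlatMod.freeMod X n))
    {r : ℕ} (hr : 0 < r) {E : X.Modules} (hE : FlatMod.IsFinLocFreeOfRank r E)
    (hss : ∀ (f : CohB1.ProjSpace 1 k ⟶ X), f ≫ (X ↘ Spec (CommRingCat.of k)) = CohB1.ProjSpace.toSpec 1 k →
      ModFun.IsSlopeSemistable k (CohB1.ProjSpace 1 k) ((Scheme.Modules.pullback f).obj E) r) :
    ∃ L : X.Modules, PicF.IsInvertible L ∧ Nonempty (E ≅ ∐ fun _ : Fin r => L) := by
  haveI : IsLocallyNoetherian X := LocallyOfFiniteType.isLocallyNoetherian (X ↘ Spec (CommRingCat.of k))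
  have hf : FlatMod.IsFinLocFree E := fun x => let ⟨U, h⟩ := hE x; ⟨U, r, h⟩
  obtain ⟨p, hp⟩ := exists_point (k := k) (X := X)
  haveI : Subsingleton ↥(Spec (CommRingCat.of k)) := inferInstanceAs (Subsingleton (PrimeSpectrum k))
  refine exists_split_of_endFree p hp hr hE (htriv (r * r) (homMod E E) (rank_homMod hE) fun f hfX => ?_)
  obtain ⟨a, ⟨e⟩⟩ := exists_iso_sum_const hr (SeesawLib.isFinLocFreeOfRank_pullback f hE) (hss f hfX)
  obtain ⟨t, ht⟩ := exists_endFrame (CohCmpLib.isFinLocFree_pb f hf) (VBP1Lib.twist_inv k a) e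
  obtain ⟨φ⟩ := CohCmpLib.exists_iso_freeMod_of_frame ht
  haveI := CohCmpLib.isIso_homPull f (P := E) hf
  exact ⟨asIso (homPull f E E) ≪≫ φ⟩

end LineSemiLib
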