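import Groth.Agent.VBP1Lib.Twist
import Groth.Agent.VBP1Lib.Split
import Groth.Agent.CurveVBLib.Slope
import Groth.Agent.CurveVBLib.Abelian
import Groth.Agent.KSModLib.Isotypical
import Groth.Agent.S7797

/-!
# Semistable bundles on the projective line are sums of copies of one twist
-/

set_option autoImplicit false
set_option linter.style.haveILetI false
set_option backward.isDefEq.respectTransparency false
set_option backward.isDefEq.respectTransparency.types false

universe u

open CategoryTheory CategoryTheory.Limits AlgebraicGeometry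

noncomputable section

namespace LineSemiLib

open VBP1Lib CurveVBLib

variable {k : Type u} [Field k]

local notation "P" => CohB1.ProjSpace 1 k
local notation "O'" => Twist.twistProjSpace 1 k

theorem dg_iso {A B : (CohB1.ProjSpace 1 k).Modules} (hA : Coh.IsCoh A) (hB : Coh.IsCoh B) (e : A ≅ B) :
    dg k A = dg k B := by
  rw [(epi_data (k := k) hA hB e.hom).2.2, dg_of_isZero (isZero_kernel_of_mono e.hom), zero_add]

/-- The degree of a sum of twists. -/
theorem dg_sum : ∀ (r : ℕ) (d : Fin r → ℤ), Coh.IsCoh (∐ fun i => O' (d i)) →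
    dg k (∐ fun i => O' (d i)) = ∑ i, d i
  | 0, d, _ => by
    have hz : IsZero (∐ fun i => O' (d i)) :=
      (IsZero.iff_id_eq_zero _).mpr (Sigma.hom_ext _ _ fun i => i.elim0)
    simp [dg_of_isZero hz]
  | r + 1, d, hd => by
    haveI := CurvLib.isNoetherian k (X := CohB1.ProjSpace 1 k)
    let sp := coprodSeqSplitting fun i => O' (d i)
    have h₃ : Coh.IsCoh (∐ fun i : Fin r => O' (d i.succ)) :=
      KSMod.isCoh_of_retract sp.s (coprodSeq fun i => O' (d i)).g sp.s_g hd
    have h₁ : Coh.IsCoh (O' (d 0)) := CurvLib.isCoh_of_isInvertible (twist_inv k (d 0))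
    refine (dg_add (k := k) sp.shortExact h₁ hd h₃).trans ?_
    rw [Fin.sum_univ_succ, ← dg_sum r (fun i => d i.succ) h₃]
    exact congrArg (· + _) ((deg_eq_dg (k := k) (CurvLib.locFree_of_isInvertible (twist_inv k (d 0)))).symm.trans
      (deg_twist k (d 0)))

/-- A semistable bundle on the line is a sum of copies of one twist. -/
theorem exists_iso_sum_const {r : ℕ} (hr : 0 < r) {E : (CohB1.ProjSpace 1 k).Modules}
    (hE : FlatMod.IsFinLocFreeOfRank r E) (hss : ModFun.IsSlopeSemistable k (CohB1.ProjSpace 1 k) E r) :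
    ∃ a : ℤ, Nonempty (E ≅ ∐ fun _ : Fin r => O' a) := by
  obtain ⟨d, ⟨-, ⟨e⟩⟩, -⟩ := Groth.Agent.S7797.result k r E hE
  have hEc := CurvLib.isCoh_of_locFree hE
  have hd : Coh.IsCoh (∐ fun i => O' (d i)) := QCohLib.isCoh_of_iso e hEc
  have hdeg : Curv2.deg k (CohB1.ProjSpace 1 k) E r = ∑ i, d i := by
    rw [deg_eq_dg (k := k) hE, dg_iso hEc hd e, dg_sum r d hd]
  have hle : ∀ i, d i * (r : ℤ) ≤ ∑ j, d j := fun i => by
    have := hss (O' (d i)) 1 (Sigma.ι (fun i => O' (d i)) i ≫ e.inv) inferInstance one_pos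
      (CurvLib.locFree_of_isInvertible (twist_inv k (d i)))
    rwa [hdeg, deg_twist, Nat.cast_one, mul_one] at this
  haveI : Nonempty (Fin r) := ⟨⟨0, hr⟩⟩
  obtain ⟨m, -, hm⟩ := Finset.exists_max_image (Finset.univ : Finset (Fin r)) d Finset.univ_nonempty
  have hall : ∀ i, d i = d m := by
    intro i
    by_contra hne
    have hlt : ∑ j, d j < ∑ _j : Fin r, d m :=
      Finset.sum_lt_sum (fun j _ => hm j (Finset.mem_univ j))
        ⟨i, Finset.mem_univ i, lt_of_le_of_ne (hm i (Finset.mem_univ i)) hne⟩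
    have := hle m
    simp only [Finset.sum_const, Finset.card_univ, Fintype.card_fin, nsmul_eq_mul] at hlt
    rw [mul_comm] at this
    omega
  exact ⟨d m, ⟨e ≪≫ Sigma.mapIso fun i => eqToIso (congrArg O' (hall i))⟩⟩

end LineSemiLib
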